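import Mathlib
import Cfsg.Agent.Lib.NormalAbelian
import Cfsg.Agent.OddOrderLocal.OmegaCritical

/-!
# Small subgroups detecting `p'`-automorphisms (helper787)

* `exists_omega_critical_two` : a finite `2`-group has a characteristic subgroup of exponent dividing `4` and
  class at most `2` which detects automorphisms of odd order;
* `exists_normal_abelian_in` : a normal subgroup `D` of a finite nilpotent group `N` contains an abelian normal
  subgroup `A` of `N` with `C_D(A) = A`;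
* `eq_one_of_fix_abelian` : if `D` (class at most two) detects `p'`-automorphisms then so does every abelian
  `A ≤ D` with `C_D(A) ≤ A`.
-/

set_option autoImplicit false

namespace Cfsg.Agent.H787

open Subgroup
open scoped commutatorElement

/-- A finite `2`-group has a characteristic subgroup of exponent dividing `4` and class at most `2` on
which every nontrivial automorphism of odd order acts nontrivially. -/
theorem exists_omega_critical_two {R : Type*} [Group R] [Finite R] (hR : IsPGroup 2 R) :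
    ∃ H : Subgroup R, H.Characteristic ∧ (∀ x ∈ H, x ^ 4 = 1) ∧
      (∀ x ∈ H, ∀ y ∈ H, ∀ z ∈ H, Commute ⁅x, y⁆ z) ∧
      ∀ a : MulAut R, (orderOf a).Coprime 2 → (∀ x ∈ H, a x = x) → a = 1 := by
  have h2p : Fact (Nat.Prime 2) := ⟨Nat.prime_two⟩
  obtain ⟨C, hC, h1, h2, h3⟩ := Cfsg.Agent.S0093.result hR
  have hpc : ∀ x ∈ C, ∀ y ∈ C, Commute (x ^ 2) y := by
    intro x hx y hy
    have h4 : (⟨x, hx⟩ : C) ^ 2 ∈ frattini C :=
      Cfsg.Agent.Lib.FrattiniPGroup.pow_mem_frattini (hR.to_subgroup C) _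
    have h5 : x ^ 2 ∈ Subgroup.centralizer (C : Set R) := h1 ⟨_, h4, rfl⟩
    exact (Subgroup.mem_centralizer_iff.1 h5 y hy).symm
  have hcc : ∀ x ∈ C, ∀ y, ∀ z ∈ C, Commute ⁅x, y⁆ z := by
    intro x hx y z hz
    have h4 : ⁅x, y⁆ ∈ C ⊓ Subgroup.centralizer (C : Set R) :=
      h2 (Subgroup.commutator_mem_commutator hx (Subgroup.mem_top y))
    exact (Subgroup.mem_centralizer_iff.1 h4.2 z hz).symm
  have hmul : ∀ x ∈ C, ∀ y ∈ C, (x * y) ^ 4 = x ^ 4 * y ^ 4 := by
    intro x hx y hy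
    -- c = [y, x], central in C
    have hc : ∀ z ∈ C, ⁅y, x⁆ * z = z * ⁅y, x⁆ := fun z hz => (hcc y hy x z hz).eq
    have hyx : y * x = ⁅y, x⁆ * x * y := by
      rw [commutatorElement_def]; group
    -- c ^ 2 = 1
    have hc2 : ⁅y, x⁆ * ⁅y, x⁆ = 1 := by
      have e1 : y * (x * x) = (x * x) * y := by
        have := (hpc x hx y hy).eq
        rw [pow_two] at this
        exact this.symm
      have e2 : y * (x * x) = ⁅y, x⁆ * ⁅y, x⁆ * (x * x * y) := by
        calc y * (x * x) = (y * x) * x := by group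
          _ = (⁅y, x⁆ * x * y) * x := by rw [← hyx]
          _ = ⁅y, x⁆ * x * (y * x) := by group
          _ = ⁅y, x⁆ * x * (⁅y, x⁆ * x * y) := by rw [← hyx]
          _ = ⁅y, x⁆ * (x * ⁅y, x⁆) * x * y := by group
          _ = ⁅y, x⁆ * (⁅y, x⁆ * x) * x * y := by rw [hc x hx]
          _ = ⁅y, x⁆ * ⁅y, x⁆ * (x * x * y) := by group
      rw [e1] at e2
      exact (mul_eq_right.1 e2.symm)
    -- (x y)^2 = c x^2 y^2
    have hsq : (x * y) * (x * y) = ⁅y, x⁆ * (x * x * (y * y)) := by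
      calc (x * y) * (x * y) = x * (y * x) * y := by group
        _ = x * (⁅y, x⁆ * x * y) * y := by rw [← hyx]
        _ = (x * ⁅y, x⁆) * x * y * y := by group
        _ = (⁅y, x⁆ * x) * x * y * y := by rw [hc x hx]
        _ = ⁅y, x⁆ * (x * x * (y * y)) := by group
    have hz1 : x * x ∈ C := C.mul_mem hx hx
    have hz2 : y * y ∈ C := C.mul_mem hy hy
    have hw : x * x * (y * y) ∈ C := C.mul_mem hz1 hz2
    have hcomm : (y * y) * (x * x) = (x * x) * (y * y) := by
      have := (hpc y hy (x * x) hz1).eq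
      rw [pow_two] at this
      exact this
    have e4 : ∀ t : R, t ^ 4 = (t * t) * (t * t) := by
      intro t
      rw [show (4 : ℕ) = 2 + 2 from rfl, pow_add, pow_two]
    rw [e4, e4, e4, hsq]
    calc ⁅y, x⁆ * (x * x * (y * y)) * (⁅y, x⁆ * (x * x * (y * y)))
        = ⁅y, x⁆ * ((x * x * (y * y)) * ⁅y, x⁆) * (x * x * (y * y)) := by group
      _ = ⁅y, x⁆ * (⁅y, x⁆ * (x * x * (y * y))) * (x * x * (y * y)) := by rw [hc _ hw]
      _ = (⁅y, x⁆ * ⁅y, x⁆) * ((x * x) * ((y * y) * (x * x)) * (y * y)) := by group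
      _ = (x * x) * ((x * x) * (y * y)) * (y * y) := by rw [hc2, one_mul, hcomm]
      _ = x * x * (x * x) * (y * y * (y * y)) := by group
  let H : Subgroup R :=
    { carrier := {x | x ∈ C ∧ x ^ 4 = 1}
      one_mem' := ⟨C.one_mem, one_pow 4⟩
      mul_mem' := by
        rintro x y ⟨hx, hx'⟩ ⟨hy, hy'⟩
        exact ⟨C.mul_mem hx hy, by rw [hmul x hx y hy, hx', hy', one_mul]⟩
      inv_mem' := by
        rintro x ⟨hx, hx'⟩
        exact ⟨C.inv_mem hx, by rw [inv_pow, hx', inv_one]⟩ }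
  have hCa : ∀ (a : MulAut R) (x : R), x ∈ C → a x ∈ C := by
    intro a x hx
    have := (Subgroup.characteristic_iff_le_comap.1 hC) a
    exact this hx
  refine ⟨H, ?_, fun x hx => hx.2, fun x hx y hy z hz => hcc x hx.1 y z hz.1, ?_⟩
  · rw [Subgroup.characteristic_iff_le_comap]
    intro φ x hx
    refine ⟨hCa φ x hx.1, ?_⟩
    have h4 : (φ x) ^ 4 = 1 := by rw [← map_pow, hx.2, map_one]
    exact h4
  · intro a ha hfix
    have key : ∀ n : ℕ, ∀ x ∈ C, x ^ (4 ^ n) = 1 → a x = x := by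
      intro n
      induction n with
      | zero =>
        intro x _ hx
        rw [pow_zero, pow_one] at hx
        rw [hx, map_one]
      | succ n ih =>
        intro x hx hxn
        rw [pow_succ', pow_mul] at hxn
        have h4 := ih (x ^ 4) (C.pow_mem hx 4) hxn
        apply Cfsg.Agent.OddOrderLocal.OmegaCritical.fix_of_fix_div hR a ha
        apply hfix
        refine ⟨C.mul_mem (C.inv_mem hx) (hCa a x hx), ?_⟩
        rw [hmul _ (C.inv_mem hx) _ (hCa a x hx), ← map_pow, h4, inv_pow, inv_mul_cancel]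
    refine Cfsg.Agent.S0121.result hR C hC h1 h2 h3 a ha ?_
    intro x hx
    obtain ⟨n, hn⟩ := hR x
    refine key n x hx ?_
    have h5 : (4 : ℕ) ^ n = 2 ^ n * 2 ^ n := by
      rw [← mul_pow]
      norm_num
    rw [h5, pow_mul, hn, one_pow]

/-- A normal subgroup `D` of a finite nilpotent group `N` contains an abelian normal subgroup `A` of `N` which
contains its centralizer in `D`. -/
theorem exists_normal_abelian_in {N : Type*} [Group N] [Finite N] [Group.IsNilpotent N]
    (D : Subgroup N) (hD : D.Normal) :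
    ∃ A : Subgroup N, A.Normal ∧ A ≤ D ∧ IsMulCommutative A ∧
      D ⊓ Subgroup.centralizer (A : Set N) ≤ A := by
  obtain ⟨A, -, hA⟩ := (Set.toFinite {A : Subgroup N | A.Normal ∧ A ≤ D ∧ IsMulCommutative A}).exists_le_maximal
    (a := ⊥) ⟨inferInstance, bot_le, inferInstance⟩
  have hAn : A.Normal := hA.1.1
  refine ⟨A, hA.1.1, hA.1.2.1, hA.1.2.2, ?_⟩
  by_contra hcon
  have hCn : (D ⊓ Subgroup.centralizer (A : Set N)).Normal := inferInstance
  obtain ⟨x, hx, hxA, hcx⟩ :=
    Cfsg.Agent.Lib.NormalAbelian.exists_mem_not_mem_central_mod hA.1.1 hCn hcon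
  obtain ⟨h1, h2⟩ := Cfsg.Agent.Lib.NormalAbelian.sup_zpowers_normal_abelian hA.1.1 hA.1.2.2 hx.2 hcx
  have h3 := hA.2 (y := A ⊔ Subgroup.zpowers x)
    ⟨h1, sup_le hA.1.2.1 (Subgroup.zpowers_le.2 hx.1), h2⟩ le_sup_left
  exact hxA (h3 ((le_sup_right : Subgroup.zpowers x ≤ _) (Subgroup.mem_zpowers x)))

/-- If a subgroup `D` of class at most `2` of the finite `p`-group `R` is invariant under the `p'`-automorphism
`a`, which fixes pointwise an abelian subgroup `A` of `D` with `C_D(A) ≤ A`, then `a` fixes `D` pointwise. -/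
theorem fix_of_fix_abelian {R : Type*} [Group R] {p : ℕ} (hR : IsPGroup p R) {D A : Subgroup R}
    (hcl : ∀ x ∈ D, ∀ y ∈ D, ∀ z ∈ D, Commute ⁅x, y⁆ z) (hAD : A ≤ D)
    (hC : D ⊓ Subgroup.centralizer (A : Set R) ≤ A)
    (a : MulAut R) (ha : (orderOf a).Coprime p) (haD : ∀ x ∈ D, a x ∈ D)
    (hfix : ∀ x ∈ A, a x = x) : ∀ x ∈ D, a x = x := by
  intro d hd
  apply Cfsg.Agent.OddOrderLocal.OmegaCritical.fix_of_fix_div hR a ha
  apply hfix
  refine hC ⟨D.mul_mem (D.inv_mem hd) (haD d hd), Subgroup.mem_centralizer_iff.2 fun b hb => ?_⟩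
  -- [d, b] is central in `D`, so lies in `A`, so is fixed
  have h1 : ⁅d, b⁆ ∈ A := by
    refine hC ⟨?_, Subgroup.mem_centralizer_iff.2 fun c hc =>
      ((hcl d hd b (hAD hb) c (hAD hc)).eq).symm⟩
    rw [commutatorElement_def]
    exact D.mul_mem (D.mul_mem (D.mul_mem hd (hAD hb)) (D.inv_mem hd)) (D.inv_mem (hAD hb))
  have h2 := hfix _ h1
  rw [map_commutatorElement, hfix b hb, commutatorElement_def, commutatorElement_def] at h2
  have h3 : a d * b * (a d)⁻¹ = d * b * d⁻¹ := mul_right_cancel h2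
  calc b * (d⁻¹ * a d) = d⁻¹ * (d * b * d⁻¹) * a d := by group
    _ = d⁻¹ * (a d * b * (a d)⁻¹) * a d := by rw [h3]
    _ = d⁻¹ * a d * b := by group

end Cfsg.Agent.H787
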