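import Cfsg.Agent.H802.FusAlp
import Cfsg.Agent.H802.FusEss
import Cfsg.Agent.H787.Crit

/-!
# Control of fusion by small subgroups (Benson–Grodal–Henke) (helper787)

Let `G ≤ F` be saturated fusion systems over the same finite `p`-group `S`.

* `autGroup_le_of_detect` / `autGroup_le_of_detect'` : if `P` is fully normalized and centric in `F`, the maps
  of `F` with larger sources lie in `G`, `A ≤ P` is normal in `N_S(P)`, every element of `Aut_F(P)` fixing `A`
  pointwise is in `Aut_S(P)`, and the maps of `F` between conjugates of `A` are in `G`, then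
  `Aut_F(P) ≤ Aut_G(P)`.
* `hom_le_of_small` : if for every `P ≤ S` there is such an `A` in a given class of subgroups on which `F` and
  `G` agree, then `F ≤ G`.
-/

set_option autoImplicit false

namespace Cfsg.Agent.H787

open Cfsg Cfsg.FusionSystem Cfsg.Agent.H802
open scoped commutatorElement

variable {Ω : Type*} [Group Ω] {S : Subgroup Ω}

/-- In a finite `p`-group `S`: if `P` normalizes `C` and `N_C(P) ≤ P` then `C ≤ P`. -/
theorem le_of_normalizerIn_inf_le {p : ℕ} [Fact p.Prime] [Finite S] (hS : IsPGroup p S)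
    {P C : Subgroup Ω} (hP : P ≤ S) (hC : C ≤ S) (hPC : P ≤ Subgroup.normalizer (C : Set Ω))
    (h : ∀ c ∈ C, c ∈ Subgroup.normalizer (P : Set Ω) → c ∈ P) : C ≤ P := by
  by_contra hcon
  have hRS : P ⊔ C ≤ S := sup_le hP hC
  have hfin : Finite (P ⊔ C : Subgroup Ω) := finite_of_le hRS
  have hR : IsPGroup p (P ⊔ C : Subgroup Ω) := by
    intro x
    obtain ⟨k, hk⟩ := hS ⟨x, hRS x.2⟩
    refine ⟨k, ?_⟩
    have := congrArg Subtype.val hk
    exact Subtype.ext this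
  have hne : P ≠ P ⊔ C := fun heq => hcon (by rw [heq]; exact le_sup_right)
  have hlt := card_lt_card_normalizerIn hR (P := P) le_sup_left hne
  have hfin2 : Finite P := finite_of_le hP
  have : ¬ normalizerIn (P ⊔ C) P ≤ P := fun hle =>
    absurd (Nat.card_mono (Set.toFinite (P : Set Ω)) hle) (not_le.2 hlt)
  obtain ⟨r, hr, hrP⟩ := SetLike.not_le_iff_exists.1 this
  -- write r = x * c
  have hmul : ∃ x ∈ P, ∃ c ∈ C, x * c = r := by
    have h1 : r ∈ P ⊔ C := hr.1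
    rw [← SetLike.mem_coe, Subgroup.coe_mul_of_left_le_normalizer_right P C hPC] at h1
    obtain ⟨x, hx, c, hc, hxc⟩ := Set.mem_mul.1 h1
    exact ⟨x, hx, c, hc, hxc⟩
  obtain ⟨x, hx, c, hc, rfl⟩ := hmul
  apply hrP
  refine P.mul_mem hx (h c hc ?_)
  have h2 : x⁻¹ * (x * c) ∈ Subgroup.normalizer (P : Set Ω) :=
    (Subgroup.normalizer (P : Set Ω)).mul_mem
      ((Subgroup.normalizer (P : Set Ω)).inv_mem (Subgroup.le_normalizer hx)) hr.2
  rwa [inv_mul_cancel_left] at h2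

/-- The core lemma, with `A` receptive in `G`. -/
theorem autGroup_le_of_detect {p : ℕ} [Fact p.Prime] [Finite S] (hS : IsPGroup p S)
    {F G : FusionSystem S} (hF : F.IsSaturated p) (hle : G ≤ F)
    {P : Subgroup Ω} (hP : F.IsFullyNormalized P)
    (hbig : ∀ R : Subgroup Ω, Nat.card P < Nat.card R → F.Hom R ⊆ G.Hom R)
    {A : Subgroup Ω} (hAP : A ≤ P) (hAn : P ≤ Subgroup.normalizer (A : Set Ω))
    (hA : G.IsReceptive A)
    (hdet : ∀ α ∈ F.autGroup P, (∀ x : P, (x : Ω) ∈ A → α x = x) → α ∈ autInducedBy S P)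
    (hctl : ∀ (B : Subgroup Ω) (φ : B →* Ω), φ ∈ F.Hom B → φ.range = A → φ ∈ G.Hom B) :
    F.autGroup P ≤ G.autGroup P := by
  have hPS : P ≤ S := hP.1
  have hfinP : Finite P := finite_of_le hPS
  intro φ hφ
  by_contra hφG
  have hφinv : φ⁻¹ ∈ F.autGroup P := (F.autGroup P).inv_mem hφ
  -- the image `B` of `A`
  set B : Subgroup Ω := (A.subgroupOf P).map (P.subtype.comp φ.toMonoidHom) with hBdef
  have hBmem : ∀ b : Ω, b ∈ B ↔ ∃ a : P, (a : Ω) ∈ A ∧ ((φ a : P) : Ω) = b := by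
    intro b
    constructor
    · rintro ⟨a, ha, rfl⟩
      exact ⟨a, Subgroup.mem_subgroupOf.1 ha, rfl⟩
    · rintro ⟨a, ha, rfl⟩
      exact ⟨a, Subgroup.mem_subgroupOf.2 ha, rfl⟩
  have hBP : B ≤ P := by
    intro b hb
    obtain ⟨a, -, rfl⟩ := (hBmem b).1 hb
    exact (φ a).2
  have hφinv' := (mem_autGroup_iff F hPS _).1 hφinv
  set θ : B →* Ω := (P.subtype.comp (φ⁻¹).toMonoidHom).comp (Subgroup.inclusion hBP) with hθ
  have hθF : θ ∈ F.Hom B := restrict_mem hφinv' hBP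
  have hθr : θ.range = A := by
    ext x
    constructor
    · rintro ⟨b, rfl⟩
      obtain ⟨a, ha, hab⟩ := (hBmem b).1 b.2
      have h1 : Subgroup.inclusion hBP b = φ a := Subtype.ext hab.symm
      show ((φ⁻¹ (Subgroup.inclusion hBP b) : P) : Ω) ∈ A
      rw [h1]
      have h2 : φ⁻¹ (φ a) = a := φ.symm_apply_apply a
      rw [h2]
      exact ha
    · intro hx
      refine ⟨⟨φ ⟨x, hAP hx⟩, (hBmem _).2 ⟨⟨x, hAP hx⟩, hx, rfl⟩⟩, ?_⟩
      show ((φ⁻¹ (φ ⟨x, hAP hx⟩) : P) : Ω) = x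
      have h2 : φ⁻¹ (φ ⟨x, hAP hx⟩) = ⟨x, hAP hx⟩ := φ.symm_apply_apply _
      rw [h2]
  have hθG : θ ∈ G.Hom B := hctl B θ hθF hθr
  obtain ⟨ψ₀, hψ₀, hψ₀e⟩ := hA.2 B θ hθG hθr
  have hPE : P ≤ extender S B θ := by
    refine le_extender_of_extends (ψ := P.subtype.comp (φ⁻¹).toMonoidHom) hBP hPS ?_
      (hom_apply_mem hφinv') (fun x hx => rfl)
    intro g hg
    rw [Subgroup.mem_normalizer_iff]
    have hstep : ∀ g ∈ P, ∀ b ∈ B, g * b * g⁻¹ ∈ B := by
      intro g hg b hb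
      obtain ⟨a, ha, rfl⟩ := (hBmem b).1 hb
      refine (hBmem _).2 ⟨φ⁻¹ ⟨g, hg⟩ * a * (φ⁻¹ ⟨g, hg⟩)⁻¹, ?_, ?_⟩
      · have := (Subgroup.mem_normalizer_iff.1 (hAn (φ⁻¹ ⟨g, hg⟩).2) a).1 ha
        exact this
      · rw [map_mul, map_mul, map_inv]
        have h2 : φ (φ⁻¹ ⟨g, hg⟩) = ⟨g, hg⟩ := φ.apply_symm_apply _
        rw [h2]
        rfl
    intro b
    refine ⟨hstep g hg b, fun hb => ?_⟩
    have := hstep g⁻¹ (P.inv_mem hg) _ hb
    simpa [mul_assoc] using this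
  set ψ : P →* Ω := ψ₀.comp (Subgroup.inclusion hPE) with hψ
  have hψG : ψ ∈ G.Hom P := restrict_mem hψ₀ hPE
  have hψF : ψ ∈ F.Hom P := hle P hψG
  have hψe : ∀ (a : P), (a : Ω) ∈ A → ψ (φ a) = a := by
    intro a ha
    have hb : ((φ a : P) : Ω) ∈ B := (hBmem _).2 ⟨a, ha, rfl⟩
    have h1 := hψ₀e (φ a : P) hb (hPE (φ a).2)
    have h2 : ψ (φ a) = ψ₀ ⟨(φ a : P), hPE (φ a).2⟩ := rfl
    rw [h2, h1]
    show ((φ⁻¹ (⟨(φ a : P), _⟩ : P) : P) : Ω) = a
    have h3 : φ⁻¹ (φ a) = a := φ.symm_apply_apply a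
    exact congrArg Subtype.val h3
  -- η = ψ ∘ φ
  set η : P →* Ω := ψ.comp φ.toMonoidHom with hη
  have hηx : ∀ x : P, η x = ψ (φ x) := fun x => rfl
  have hφ' := (mem_autGroup_iff F hPS φ).1 hφ
  have hηF : η ∈ F.Hom P := by
    obtain ⟨χ, hχ, he⟩ := exists_comp hφ' hψF (fun x => (φ x).2)
    exact mem_of_apply_eq hχ (fun x => (he x).symm ▸ rfl)
  have hηA : ∀ a : P, (a : Ω) ∈ A → η a = a := hψe
  -- g⁻¹ η(g) centralizes A
  have hAS : A ≤ S := hAP.trans hPS
  have hηc : ∀ g : P, (g : Ω)⁻¹ * η g ∈ centralizerIn S A := by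
    intro g
    refine ⟨S.mul_mem (S.inv_mem (hPS g.2)) (hom_apply_mem hηF g),
      Subgroup.mem_centralizer_iff.2 fun a ha => ?_⟩
    have h1 : η (g * ⟨a, hAP ha⟩ * g⁻¹) = g * a * (g : Ω)⁻¹ :=
      hηA _ ((Subgroup.mem_normalizer_iff.1 (hAn g.2) a).1 ha)
    rw [map_mul, map_mul, map_inv, hηA ⟨a, hAP ha⟩ ha] at h1
    have h1' : η g * a * (η g)⁻¹ = g * a * (g : Ω)⁻¹ := h1
    calc a * ((g : Ω)⁻¹ * η g) = (g : Ω)⁻¹ * (g * a * (g : Ω)⁻¹) * η g := by group
      _ = (g : Ω)⁻¹ * (η g * a * (η g)⁻¹) * η g := by rw [h1']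
      _ = (g : Ω)⁻¹ * η g * a := by group
  by_cases hcase : centralizerIn S A ≤ P
  · -- Case 1
    have hηP : ∀ x : P, η x ∈ P := by
      intro x
      have := P.mul_mem x.2 (hcase (hηc x))
      rwa [mul_inv_cancel_left] at this
    obtain ⟨δ, hδ, hδe⟩ := exists_aut hηF (range_eq_of_mapsTo hηF hηP)
    have hδS : δ ∈ autInducedBy S P := hdet δ hδ (fun x hx => by
      apply Subtype.ext
      rw [hδe, hηA x hx])
    have hδG : δ ∈ G.autGroup P := autInducedBy_le_autGroup G hPS hδS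
    have hψP : ∀ x : P, ψ x ∈ P := by
      intro x
      have h1 := hηP (φ⁻¹ x)
      rw [hηx] at h1
      have h2 : φ (φ⁻¹ x) = x := φ.apply_symm_apply x
      rwa [h2] at h1
    obtain ⟨μ, hμ, hμe⟩ := exists_aut hψG (range_eq_of_mapsTo hψG hψP)
    have h3 : δ = μ * φ := by
      ext x
      rw [hδe, MulAut.mul_apply, hμe, hηx]
    apply hφG
    have h4 : φ = μ⁻¹ * δ := by rw [h3]; group
    rw [h4]
    exact (G.autGroup P).mul_mem ((G.autGroup P).inv_mem hμ) hδG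
  · -- Case 2
    apply hcase
    have hPne : P ≠ S := by
      intro heq
      apply hcase
      rw [heq]
      exact inf_le_left
    set P' : Subgroup Ω := η.range with hP'
    have hP'S : P' ≤ S := range_le_of_mem hηF
    have hcardP' : Nat.card P = Nat.card P' := isConj_card_eq (isConj_range hηF)
    have hP'ne : P' ≠ S := by
      intro heq
      apply hPne
      apply Subgroup.eq_of_le_of_card_ge hPS
      rw [hcardP', heq]
    obtain ⟨κ, hκ, hκr, hκ1, hκ2⟩ := exists_inv hηF hP'.symm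
    obtain ⟨β, hβ, χ, hχ, hχe, hχN⟩ := exists_extension_normalizer hS hF hκ hκr hP
    have hχG : χ ∈ G.Hom (normalizerIn S P') :=
      hbig _ (hcardP' ▸ card_lt_card_normalizerIn hS hP'S hP'ne) hχ
    have hκP : ∀ y : P', κ y ∈ P := fun y => by rw [← hκr]; exact ⟨y, rfl⟩
    have hηP' : ∀ x : P, η x ∈ P' := fun x => ⟨x, rfl⟩
    have hP'N : P' ≤ normalizerIn S P' := le_normalizerIn hP'S
    have hψP' : ∀ x : P, ψ x ∈ P' := by
      intro x
      refine ⟨φ⁻¹ x, ?_⟩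
      rw [hηx]
      have h2 : φ (φ⁻¹ x) = x := φ.apply_symm_apply x
      rw [h2]
    -- χ carries P' onto P
    have hχP' : ∀ y : P', χ ⟨y, hP'N y.2⟩ = (β ⟨κ y, hκP y⟩ : P) := fun y => hχe y (hκP y) _
    -- μ = χ ∘ ψ
    obtain ⟨μ₀, hμ₀, hμ₀e⟩ := exists_comp hψG hχG (fun x => hP'N (hψP' x))
    have hμ₀P : ∀ x : P, μ₀ x ∈ P := by
      intro x
      rw [hμ₀e, hχP' ⟨ψ x, hψP' x⟩]
      exact (β _).2
    obtain ⟨μ, hμ, hμe⟩ := exists_aut hμ₀ (range_eq_of_mapsTo hμ₀ hμ₀P)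
    have hμF : μ ∈ F.autGroup P := by
      rw [mem_autGroup_iff F hPS]
      exact hle P ((mem_autGroup_iff G hPS μ).1 hμ)
    set φ' : MulAut P := μ * φ with hφ'def
    have hφ'F : φ' ∈ F.autGroup P := (F.autGroup P).mul_mem hμF hφ
    have hφ'G : φ' ∉ G.autGroup P := by
      intro h
      apply hφG
      have h4 : φ = μ⁻¹ * φ' := by rw [hφ'def]; group
      rw [h4]
      exact (G.autGroup P).mul_mem ((G.autGroup P).inv_mem hμ) h
    have hφ'e : ∀ x : P, ((φ' x : P) : Ω) = χ ⟨η x, hP'N (hηP' x)⟩ := by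
      intro x
      rw [hφ'def, MulAut.mul_apply, hμe, hμ₀e]
      rfl
    have hAP' : A ≤ P' := fun a ha => ⟨⟨a, hAP ha⟩, hηA ⟨a, hAP ha⟩ ha⟩
    have hφ'A : ∀ (a : Ω) (ha : a ∈ A), ((φ' ⟨a, hAP ha⟩ : P) : Ω) = χ ⟨a, hP'N (hAP' ha)⟩ := by
      intro a ha
      rw [hφ'e]
      congr 1
      exact Subtype.ext (hηA ⟨a, hAP ha⟩ ha)
    -- Claim 1
    have hclaim1 : ∀ c ∈ centralizerIn S A, c ∈ Subgroup.normalizer (P' : Set Ω) → c ∈ P' := by
      intro c hc hcN
      have hcN' : c ∈ normalizerIn S P' := ⟨hc.1, hcN⟩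
      have hχc := hχN ⟨c, hcN'⟩
      have hχcP : χ ⟨c, hcN'⟩ ∈ P := by
        by_contra hnot
        obtain ⟨β', hβ'⟩ := exists_conjAut hχc.2
        have hβ'S : β' ∈ autInducedBy S P :=
          (mem_autInducedBy_iff S P β').2 ⟨_, hχc.1, hβ'⟩
        have hβ'F : β' ∈ F.autGroup P := autInducedBy_le_autGroup F hPS hβ'S
        have hφ'i : φ'⁻¹ ∈ F.autGroup P := (F.autGroup P).inv_mem hφ'F
        have hmem : φ'⁻¹ * β' * φ'⁻¹⁻¹ ∈ F.autGroup P :=
          (F.autGroup P).mul_mem ((F.autGroup P).mul_mem hφ'i hβ'F) ((F.autGroup P).inv_mem hφ'i)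
        have hin : φ'⁻¹ * β' * φ'⁻¹⁻¹ ∈ autInducedBy S P := by
          apply hdet _ hmem
          intro x hx
          rw [inv_inv, MulAut.mul_apply, MulAut.mul_apply]
          have h5 : β' (φ' x) = φ' x := by
            apply Subtype.ext
            rw [hβ']
            have h6 : ((φ' x : P) : Ω) = χ ⟨x, hP'N (hAP' hx)⟩ := hφ'A x hx
            rw [h6]
            have h7 : χ ⟨c, hcN'⟩ * χ ⟨x, hP'N (hAP' hx)⟩ * (χ ⟨c, hcN'⟩)⁻¹
                = χ (⟨c, hcN'⟩ * ⟨x, hP'N (hAP' hx)⟩ * (⟨c, hcN'⟩)⁻¹) := by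
              rw [map_mul, map_mul, map_inv]
            rw [h7]
            congr 1
            apply Subtype.ext
            show c * x * c⁻¹ = x
            rw [← Subgroup.mem_centralizer_iff.1 hc.2 x hx, mul_inv_cancel_right]
          rw [h5]
          exact φ'.symm_apply_apply x
        obtain ⟨R, hPR, hcardR, ψ', hψ', hψ'e⟩ :=
          extends_of_conj_mem (isReceptive_of_isFullyNormalized hS hF hP) hφ'i hχc.1 hnot hβ' hin
        have hψ'G := hbig R hcardR hψ'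
        have h8 : φ'⁻¹ ∈ G.autGroup P := by
          rw [mem_autGroup_iff G hPS]
          exact mem_of_agree hψ'G hPR (fun x hx => (hψ'e ⟨x, hx⟩).symm)
        exact hφ'G (inv_inv φ' ▸ (G.autGroup P).inv_mem h8)
      -- c ∈ P'
      have h9 : χ ⟨c, hcN'⟩ = χ ⟨η (φ'⁻¹ ⟨_, hχcP⟩), hP'N (hηP' _)⟩ := by
        rw [← hφ'e]
        have h10 : φ' (φ'⁻¹ ⟨_, hχcP⟩) = ⟨_, hχcP⟩ := φ'.apply_symm_apply _
        rw [h10]
      have h11 := F.injective_of_mem hχ h9
      have h12 : c = η (φ'⁻¹ ⟨_, hχcP⟩) := congrArg Subtype.val h11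
      rw [h12]
      exact hηP' _
    -- Claim 2
    have hclaim2 : centralizerIn S A ≤ P' := by
      refine le_of_normalizerIn_inf_le hS hP'S inf_le_left ?_ hclaim1
      rintro _ ⟨g, rfl⟩
      have hgA : ∀ a : Ω, a ∈ A ↔ η g * a * (η g)⁻¹ ∈ A := by
        have hstep : ∀ g : P, ∀ a ∈ A, η g * a * (η g)⁻¹ ∈ A := by
          intro g a ha
          have h1 : η (g * ⟨a, hAP ha⟩ * g⁻¹) = g * a * (g : Ω)⁻¹ :=
            hηA _ ((Subgroup.mem_normalizer_iff.1 (hAn g.2) a).1 ha)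
          rw [map_mul, map_mul, map_inv, hηA ⟨a, hAP ha⟩ ha] at h1
          have h1' : η g * a * (η g)⁻¹ = g * a * (g : Ω)⁻¹ := h1
          rw [h1']
          exact (Subgroup.mem_normalizer_iff.1 (hAn g.2) a).1 ha
        intro a
        refine ⟨hstep g a, fun ha => ?_⟩
        have := hstep g⁻¹ _ ha
        rw [map_inv] at this
        simpa [mul_assoc] using this
      rw [Subgroup.mem_normalizer_iff]
      intro c
      constructor
      · intro hc
        refine ⟨S.mul_mem (S.mul_mem (hom_apply_mem hηF g) hc.1) (S.inv_mem (hom_apply_mem hηF g)),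
          Subgroup.mem_centralizer_iff.2 fun a ha => ?_⟩
        have h1 : (η g)⁻¹ * a * η g ∈ A := by
          rw [hgA]
          simpa [mul_assoc] using ha
        have h2 := Subgroup.mem_centralizer_iff.1 hc.2 _ h1
        calc a * (η g * c * (η g)⁻¹) = η g * ((η g)⁻¹ * a * η g * c) * (η g)⁻¹ := by group
          _ = η g * (c * ((η g)⁻¹ * a * η g)) * (η g)⁻¹ := by rw [h2]
          _ = η g * c * (η g)⁻¹ * a := by group
      · intro hc
        have hcS : c ∈ S := by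
          have h1 : (η g)⁻¹ * (η g * c * (η g)⁻¹) * η g ∈ S :=
            S.mul_mem (S.mul_mem (S.inv_mem (hom_apply_mem hηF g)) hc.1) (hom_apply_mem hηF g)
          have h2 : (η g)⁻¹ * (η g * c * (η g)⁻¹) * η g = c := by group
          rwa [h2] at h1
        refine ⟨hcS, Subgroup.mem_centralizer_iff.2 fun a ha => ?_⟩
        have h2 := Subgroup.mem_centralizer_iff.1 hc.2 _ ((hgA a).1 ha)
        calc a * c = (η g)⁻¹ * ((η g * a * (η g)⁻¹) * (η g * c * (η g)⁻¹)) * η g := by group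
          _ = (η g)⁻¹ * ((η g * c * (η g)⁻¹) * (η g * a * (η g)⁻¹)) * η g := by rw [h2]
          _ = c * a := by group
    -- conclusion
    have hfinC : Finite (P ⊓ centralizerIn S A : Subgroup Ω) := finite_of_le (inf_le_left.trans hPS)
    have h13 : Nat.card (centralizerIn S A) ≤ Nat.card (P ⊓ centralizerIn S A : Subgroup Ω) := by
      refine card_le_of_maps (F.injective_of_mem hκ) hclaim2 (fun x hx => ⟨hκP _, ?_⟩)
      have hκA : ∀ (a : Ω) (ha : a ∈ A), κ ⟨a, hAP' ha⟩ = a := by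
        intro a ha
        have := hκ1 ⟨a, hAP ha⟩ (hηP' _)
        have h14 : (⟨a, hAP' ha⟩ : P') = ⟨η ⟨a, hAP ha⟩, hηP' _⟩ :=
          Subtype.ext (hηA ⟨a, hAP ha⟩ ha).symm
        rw [h14]
        exact this
      refine ⟨hom_apply_mem hκ _, Subgroup.mem_centralizer_iff.2 fun a ha => ?_⟩
      have h15 : (⟨a, hAP' ha⟩ : P') * ⟨x, hclaim2 hx⟩ = ⟨x, hclaim2 hx⟩ * ⟨a, hAP' ha⟩ :=
        Subtype.ext (Subgroup.mem_centralizer_iff.1 hx.2 a ha)
      have h16 := congrArg κ h15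
      rw [map_mul, map_mul, hκA a ha] at h16
      exact h16
    have h17 : (P ⊓ centralizerIn S A : Subgroup Ω) = centralizerIn S A := by
      have hfinC' : Finite (centralizerIn S A) := finite_of_le inf_le_left
      exact Subgroup.eq_of_le_of_card_ge inf_le_right h13
    rw [← h17]
    exact inf_le_left

/-- The core lemma; `A` is only assumed normal in `N_S(P)`. -/
theorem autGroup_le_of_detect' {p : ℕ} [Fact p.Prime] [Finite S] (hS : IsPGroup p S)
    {F G : FusionSystem S} (hF : F.IsSaturated p) (hG : G.IsSaturated p) (hle : G ≤ F)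
    {P : Subgroup Ω} (hP : F.IsFullyNormalized P)
    (hbig : ∀ R : Subgroup Ω, Nat.card P < Nat.card R → F.Hom R ⊆ G.Hom R)
    {A : Subgroup Ω} (hAP : A ≤ P) (hAn : normalizerIn S P ≤ Subgroup.normalizer (A : Set Ω))
    (hdet : ∀ α ∈ F.autGroup P, (∀ x : P, (x : Ω) ∈ A → α x = x) → α ∈ autInducedBy S P)
    (hctl : ∀ (B : Subgroup Ω) (φ : B →* Ω), φ ∈ F.Hom B → F.IsConj B A → φ ∈ G.Hom B) :
    F.autGroup P ≤ G.autGroup P := by
  have hPS : P ≤ S := hP.1
  have hAS : A ≤ S := hAP.trans hPS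
  have hfinP : Finite P := finite_of_le hPS
  obtain ⟨A₁, ⟨φ, hφ, hφr⟩, hA₁⟩ := exists_isFullyNormalized hS hG hAS
  obtain ⟨β, hβ, γ, hγ, hγe, hγN⟩ := exists_extension_normalizer hS hG hφ hφr hA₁
  have hPN : normalizerIn S P ≤ normalizerIn S A := fun x hx => ⟨hx.1, hAn hx⟩
  have hPNA : P ≤ normalizerIn S A := (le_normalizerIn hPS).trans hPN
  have hγF : γ ∈ F.Hom (normalizerIn S A) := hle _ hγ
  set δ : P →* Ω := γ.comp (Subgroup.inclusion hPNA) with hδ
  have hδG : δ ∈ G.Hom P := restrict_mem hγ hPNA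
  have hδF : δ ∈ F.Hom P := hle _ hδG
  set P₁ : Subgroup Ω := δ.range with hP₁
  have hP₁S : P₁ ≤ S := range_le_of_mem hδF
  have hfinP₁ : Finite P₁ := finite_of_le hP₁S
  have hconj : F.IsConj P P₁ := isConj_range hδF
  have hcard : Nat.card P = Nat.card P₁ := isConj_card_eq hconj
  -- γ maps N_S(P) into N_S(P₁)
  have hγP : ∀ (x : Ω) (hx : x ∈ normalizerIn S P), γ ⟨x, hPN hx⟩ ∈ normalizerIn S P₁ := by
    intro x hx
    have h1 := apply_mem_normalizerIn (P := P) (Q := P₁) (φ := δ)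
      (restrict_mem hγF hPN) (le_normalizerIn hPS) inf_le_right hP₁.symm (fun y hy => rfl) ⟨x, hx⟩
    exact h1
  have hfinN₁ : Finite (normalizerIn S P₁) := finite_of_le inf_le_left
  have hcardN : Nat.card (normalizerIn S P) ≤ Nat.card (normalizerIn S P₁) :=
    card_le_of_maps (F.injective_of_mem hγF) hPN hγP
  have hP₁n : F.IsFullyNormalized P₁ :=
    ⟨hP₁S, fun Q hQ => (hP.2 Q (isConj_trans hconj hQ)).trans hcardN⟩
  have hNsurj : ∀ y ∈ normalizerIn S P₁, ∃ (x : Ω) (hx : x ∈ normalizerIn S P),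
      γ ⟨x, hPN hx⟩ = y := by
    intro y hy
    exact exists_preimage_of_card (F.injective_of_mem hγF) hPN hγP (hP.2 P₁ hconj) y hy
  have hA₁P₁ : A₁ ≤ P₁ := by
    intro a ha
    -- β⁻¹ a ∈ A₁ = φ(A)
    have h1 : ((β⁻¹ ⟨a, ha⟩ : A₁) : Ω) ∈ φ.range := by
      rw [hφr]
      exact (β⁻¹ ⟨a, ha⟩).2
    obtain ⟨x, hx⟩ := h1
    refine ⟨⟨x, hAP x.2⟩, ?_⟩
    have h2 : φ x ∈ A₁ := by
      rw [hx]
      exact (β⁻¹ ⟨a, ha⟩).2
    have h3 := hγe x h2 (hPNA (hAP x.2))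
    have h4 : δ ⟨x, hAP x.2⟩ = γ ⟨x, hPNA (hAP x.2)⟩ := rfl
    rw [h4, h3]
    have h5 : (⟨φ x, h2⟩ : A₁) = β⁻¹ ⟨a, ha⟩ := Subtype.ext hx
    rw [h5]
    exact congrArg Subtype.val (β.apply_symm_apply ⟨a, ha⟩)
  have hA₁n : P₁ ≤ Subgroup.normalizer (A₁ : Set Ω) := by
    rintro _ ⟨x, rfl⟩
    exact (hγN ⟨x, hPNA x.2⟩).2
  have hφm : ∀ x : A, φ x ∈ A₁ := fun x => by rw [← hφr]; exact ⟨x, rfl⟩
  have hδA : ∀ x : P, (x : Ω) ∈ A → δ x ∈ A₁ := by
    intro x hx
    have h3 := hγe ⟨x, hx⟩ (hφm _) (hPNA x.2)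
    have h4 : δ x = γ ⟨x, hPNA x.2⟩ := rfl
    rw [h4, h3]
    exact (β _).2
  have hconjA : F.IsConj A A₁ := ⟨φ, hle _ hφ, hφr⟩
  have key : F.autGroup P₁ ≤ G.autGroup P₁ := by
    refine autGroup_le_of_detect hS hF hle hP₁n (fun R hR => hbig R (hcard ▸ hR)) hA₁P₁ hA₁n
      (isReceptive_of_isFullyNormalized hS hG hA₁) ?_ ?_
    · intro α hα hfix
      -- transport back
      set e : P ≃* P₁ := isoOf δ (F.injective_of_mem hδF) hP₁.symm with he
      have hex : ∀ x : P, ((e x : P₁) : Ω) = δ x := fun x => rfl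
      set α' : MulAut P := MulAut.congr e.symm α with hα'
      have hα'e : ∀ x : P, α' x = e.symm (α (e x)) := fun x => rfl
      have hαα' : MulAut.congr e α' = α := by
        ext x
        show ((e (e.symm (α (e (e.symm x)))) : P₁) : Ω) = (α x : P₁)
        rw [e.apply_symm_apply, e.apply_symm_apply]
      have hα'F : α' ∈ F.autGroup P := by
        rw [← congr_mem_autGroup_iff hδF hP₁.symm]
        rw [← he, hαα']
        exact hα
      have hα'S : α' ∈ autInducedBy S P := by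
        apply hdet α' hα'F
        intro x hx
        rw [hα'e, hfix (e x) (hδA x hx), e.symm_apply_apply]
      obtain ⟨g, hg, hge⟩ := (mem_autInducedBy_iff S P α').1 hα'S
      have hgN : g ∈ normalizerIn S P := ⟨hg, mem_normalizer_of_aut hge⟩
      refine (mem_autInducedBy_iff S P₁ α).2 ⟨γ ⟨g, hPN hgN⟩, (hγP g hgN).1, fun y => ?_⟩
      obtain ⟨x, rfl⟩ := e.surjective y
      have h6 : α (e x) = e (α' x) := by
        rw [hα'e, e.apply_symm_apply]
      rw [h6, hex, hex]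
      have h7 : (⟨(α' x : P), hPNA (α' x).2⟩ : normalizerIn S A) =
          ⟨g, hPN hgN⟩ * ⟨x, hPNA x.2⟩ * (⟨g, hPN hgN⟩)⁻¹ := Subtype.ext (hge x)
      show γ ⟨(α' x : P), hPNA (α' x).2⟩ = γ ⟨g, hPN hgN⟩ * γ ⟨x, hPNA x.2⟩ * (γ ⟨g, hPN hgN⟩)⁻¹
      rw [h7, map_mul, map_mul, map_inv]
    · intro B χ hχ hχr
      exact hctl B χ hχ (isConj_trans ⟨χ, hχ, hχr⟩ (isConj_symm hconjA))
  intro α hα
  rw [← congr_mem_autGroup_iff hδG hP₁.symm]
  apply key
  have h8 := (congr_mem_autGroup_iff hδF hP₁.symm (α := α)).2 hα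
  exact h8

/-- If `P` is fully automized, `A ≤ P` is normalized by `N_S(P)`, and no nontrivial `p'`-element of `Aut_F(P)`
fixes `A` pointwise, then the elements of `Aut_F(P)` fixing `A` pointwise lie in `Aut_S(P)`. -/
theorem mem_autInducedBy_of_fix {p : ℕ} [Fact p.Prime] [Finite S]
    {F : FusionSystem S} {P : Subgroup Ω} (hP : F.IsFullyAutomized p P)
    {A : Subgroup Ω} (hAn : normalizerIn S P ≤ Subgroup.normalizer (A : Set Ω))
    (hA : ∀ α ∈ F.autGroup P, (orderOf α).Coprime p → (∀ x : P, (x : Ω) ∈ A → α x = x) → α = 1)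
    (α : MulAut P) (hα : α ∈ F.autGroup P) (hfix : ∀ x : P, (x : Ω) ∈ A → α x = x) :
    α ∈ autInducedBy S P := by
  have hp : p.Prime := Fact.out
  have hPS : P ≤ S := hP.1
  have hfinP : Finite P := finite_of_le hPS
  have hfinM : Finite (MulAut P) := by
    have : Finite (P ≃ P) := inferInstance
    exact Finite.of_injective (fun f : MulAut P => f.toEquiv) MulEquiv.toEquiv_injective
  set K := F.autGroup P with hK
  obtain ⟨R, hR⟩ : ∃ R : Sylow p K, (R : Subgroup K) = (autInducedBy S P).subgroupOf K := hP.2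
  let C : Subgroup K :=
    { carrier := {a | ∀ x : P, (x : Ω) ∈ A → (a : MulAut P) x = x}
      one_mem' := fun x _ => rfl
      mul_mem' := by
        intro a b ha hb x hx
        show (a : MulAut P) ((b : MulAut P) x) = x
        rw [hb x hx, ha x hx]
      inv_mem' := by
        intro a ha x hx
        show (a : MulAut P)⁻¹ x = x
        have h1 := ha x hx
        have h2 : (a : MulAut P)⁻¹ ((a : MulAut P) x) = x := (a : MulAut P).symm_apply_apply x
        rwa [h1] at h2 }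
  have hCmem : ∀ a : K, a ∈ C ↔ ∀ x : P, (x : Ω) ∈ A → (a : MulAut P) x = x := fun a => Iff.rfl
  have hCp : IsPGroup p C := by
    intro c
    obtain ⟨k, m, hm, hkm⟩ := Nat.exists_eq_pow_mul_and_not_dvd (orderOf_pos (c : K)).ne' p hp.ne_one
    refine ⟨k, ?_⟩
    have h1 : ((c : K) : MulAut P) ^ p ^ k = 1 := by
      refine hA _ (K.pow_mem (c : K).2 _) ?_ ?_
      · have h2 : orderOf ((c : K) : MulAut P) = p ^ k * m := by
          rw [Subgroup.orderOf_coe]
          exact hkm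
        have h3 : orderOf (((c : K) : MulAut P) ^ p ^ k) = m := by
          rw [orderOf_pow_of_dvd (pow_pos hp.pos k).ne' (h2 ▸ dvd_mul_right _ _), h2,
            Nat.mul_div_cancel_left _ (pow_pos hp.pos k)]
        rw [h3]
        exact ((Nat.Prime.coprime_iff_not_dvd hp).2 hm).symm
      · have h4 : (c : K) ^ p ^ k ∈ C := C.pow_mem c.2 _
        exact (hCmem _).1 h4
    apply Subtype.ext
    apply Subtype.ext
    exact h1
  have hRC : (R : Subgroup K) ≤ Subgroup.normalizer (C : Set K) := by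
    intro r hr
    rw [hR] at hr
    obtain ⟨g, hg, hge⟩ := (mem_autInducedBy_iff S P _).1 (Subgroup.mem_subgroupOf.1 hr)
    have hgN : g ∈ normalizerIn S P := ⟨hg, mem_normalizer_of_aut hge⟩
    have hgA := Subgroup.mem_normalizer_iff.1 (hAn hgN)
    have hrA : ∀ x : P, (x : Ω) ∈ A ↔ (((r : MulAut P) x : P) : Ω) ∈ A := by
      intro x
      rw [hge]
      exact hgA x
    rw [Subgroup.mem_normalizer_iff]
    intro c
    rw [hCmem, hCmem]
    constructor
    · intro h x hx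
      show (r : MulAut P) ((c : MulAut P) ((r : MulAut P)⁻¹ x)) = x
      have h1 : (r : MulAut P) ((r : MulAut P)⁻¹ x) = x := (r : MulAut P).apply_symm_apply x
      rw [h _ ((hrA _).2 (by rw [h1]; exact hx)), h1]
    · intro h x hx
      have h2 := h _ ((hrA x).1 hx)
      have h3 : (r : MulAut P)⁻¹ ((r : MulAut P) x) = x := (r : MulAut P).symm_apply_apply x
      have h4 : (r : MulAut P) ((c : MulAut P) ((r : MulAut P)⁻¹ ((r : MulAut P) x))) =
          (r : MulAut P) x := h2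
      rw [h3] at h4
      exact (r : MulAut P).injective h4
  have hsup : IsPGroup p ((R : Subgroup K) ⊔ C : Subgroup K) :=
    IsPGroup.to_sup_of_normal_right' R.isPGroup' hCp hRC
  have heq : (R : Subgroup K) ⊔ C = R := R.is_maximal' hsup le_sup_left
  have hmem : (⟨α, hα⟩ : K) ∈ (R : Subgroup K) := by
    rw [← heq]
    exact (le_sup_right : C ≤ _) ((hCmem _).2 hfix)
  rw [hR] at hmem
  exact Subgroup.mem_subgroupOf.1 hmem

/-- **Small subgroups control fusion**, general form. Let `G ≤ F` be saturated over `S`, and let `Cl` be a class of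
subgroups of `S` closed under `F`-conjugacy, on which the maps of `F` are maps of `G`. If every `P ≤ S` contains a
member of `Cl` normalized by `N_S(P)` and detecting `p'`-automorphisms of `P`, then `F ≤ G`. -/
theorem hom_le_of_small {p : ℕ} [Fact p.Prime] [Finite S] (hS : IsPGroup p S)
    {F G : FusionSystem S} (hF : F.IsSaturated p) (hG : G.IsSaturated p) (hle : G ≤ F)
    (Cl : Subgroup Ω → Prop) (hconj : ∀ A B, F.IsConj A B → Cl A → Cl B)
    (hctl : ∀ (B : Subgroup Ω) (φ : B →* Ω), Cl B → φ ∈ F.Hom B → φ ∈ G.Hom B)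
    (hex : ∀ P : Subgroup Ω, P ≤ S → ∃ A : Subgroup Ω, A ≤ P ∧ Cl A ∧
      normalizerIn S P ≤ Subgroup.normalizer (A : Set Ω) ∧
      ∀ α : MulAut P, (orderOf α).Coprime p → (∀ x : P, (x : Ω) ∈ A → α x = x) → α = 1)
    (P : Subgroup Ω) : F.Hom P ⊆ G.Hom P := by
  refine le_of_autGroup_le hS hF G (fun Q hQ hbig => ?_) P
  obtain ⟨A, hAQ, hACl, hAn, hAdet⟩ := hex Q hQ.1
  refine autGroup_le_of_detect' hS hF hG hle hQ hbig hAQ hAn ?_ ?_
  · intro α hα hfix
    exact mem_autInducedBy_of_fix (isFullyAutomized_of_isFullyNormalized hS hF hQ) hAn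
      (fun α _ => hAdet α) α hα hfix
  · intro B φ hφ hB
    exact hctl B φ (hconj A B (isConj_symm hB) hACl) hφ

/-- Existence of small detecting subgroups from characteristic ones. -/
theorem exists_small {p : ℕ} [Fact p.Prime] [Finite S] (hS : IsPGroup p S) {P : Subgroup Ω}
    (hP : P ≤ S) (D : Subgroup P) (hD : D.Characteristic)
    (hcl : ∀ x ∈ D, ∀ y ∈ D, ∀ z ∈ D, Commute ⁅x, y⁆ z)
    (hdet : ∀ a : MulAut P, (orderOf a).Coprime p → (∀ x ∈ D, a x = x) → a = 1) :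
    ∃ A : Subgroup Ω, A ≤ P ∧ (∀ x : P, (x : Ω) ∈ A → x ∈ D) ∧ IsMulCommutative A ∧
      normalizerIn S P ≤ Subgroup.normalizer (A : Set Ω) ∧
      ∀ α : MulAut P, (orderOf α).Coprime p → (∀ x : P, (x : Ω) ∈ A → α x = x) → α = 1 := by
  have hPp : IsPGroup p P := by
    intro x
    obtain ⟨k, hk⟩ := hS ⟨x, hP x.2⟩
    have hk' : (x : Ω) ^ p ^ k = 1 := congrArg Subtype.val hk
    exact ⟨k, Subtype.ext hk'⟩
  set N := normalizerIn S P with hN
  have hNS : N ≤ S := inf_le_left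
  have hPN : P ≤ N := le_normalizerIn hP
  have hfinN : Finite N := finite_of_le hNS
  have hNp : IsPGroup p N := by
    intro x
    obtain ⟨k, hk⟩ := hS ⟨x, hNS x.2⟩
    have hk' : (x : Ω) ^ p ^ k = 1 := congrArg Subtype.val hk
    exact ⟨k, Subtype.ext hk'⟩
  have hnil : Group.IsNilpotent N := hNp.isNilpotent
  set D' : Subgroup N := (D.map P.subtype).subgroupOf N with hD'
  have hD'mem : ∀ x : N, x ∈ D' ↔ ∃ h : (x : Ω) ∈ P, (⟨x, h⟩ : P) ∈ D := by
    intro x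
    rw [hD', Subgroup.mem_subgroupOf]
    constructor
    · rintro ⟨y, hy, hyx⟩
      have h1 : (y : Ω) = x := hyx
      have h2 : (x : Ω) ∈ P := h1 ▸ y.2
      refine ⟨h2, ?_⟩
      have h3 : (⟨x, h2⟩ : P) = y := Subtype.ext h1.symm
      rw [h3]
      exact hy
    · rintro ⟨h, hx⟩
      exact ⟨⟨x, h⟩, hx, rfl⟩
  have hD'n : D'.Normal := by
    refine ⟨fun x hx g => ?_⟩
    rw [hD'mem] at hx ⊢
    obtain ⟨h, hxD⟩ := hx
    obtain ⟨α, hα⟩ := exists_conjAut g.2.2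
    have h1 : α ⟨x, h⟩ ∈ D := (Subgroup.characteristic_iff_le_comap.1 hD) α hxD
    have h2 : ((α ⟨x, h⟩ : P) : Ω) = ((g * x * g⁻¹ : N) : Ω) := hα ⟨x, h⟩
    refine ⟨h2 ▸ (α ⟨x, h⟩).2, ?_⟩
    have h3 : (⟨((g * x * g⁻¹ : N) : Ω), h2 ▸ (α ⟨x, h⟩).2⟩ : P) = α ⟨x, h⟩ := Subtype.ext h2.symm
    rw [h3]
    exact h1
  obtain ⟨A', hA'n, hA'D, hA'c, hA'C⟩ := exists_normal_abelian_in D' hD'n
  have hA'P : A'.map N.subtype ≤ P := by
    rintro _ ⟨x, hx, rfl⟩
    exact ((hD'mem x).1 (hA'D hx)).1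
  refine ⟨A'.map N.subtype, hA'P, ?_, ?_, ?_, ?_⟩
  · rintro x ⟨y, hy, hyx⟩
    obtain ⟨h1, h2⟩ := (hD'mem y).1 (hA'D hy)
    have h3 : (⟨y, h1⟩ : P) = x := Subtype.ext hyx
    rwa [h3] at h2
  · refine IsMulCommutative.of_comm ?_
    rintro ⟨_, x, hx, rfl⟩ ⟨_, y, hy, rfl⟩
    apply Subtype.ext
    have h1 := (isMulCommutative_iff.mp hA'c) ⟨x, hx⟩ ⟨y, hy⟩
    have h2 : x * y = y * x := congrArg Subtype.val h1
    have h3 : (x : Ω) * y = y * x := congrArg Subtype.val h2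
    exact h3
  · intro g hg
    have hstep : ∀ g ∈ N, ∀ x ∈ A'.map N.subtype, g * x * g⁻¹ ∈ A'.map N.subtype := by
      rintro g hg _ ⟨x, hx, rfl⟩
      exact ⟨⟨g, hg⟩ * x * (⟨g, hg⟩)⁻¹, hA'n.conj_mem x hx ⟨g, hg⟩, rfl⟩
    rw [Subgroup.mem_normalizer_iff]
    intro x
    refine ⟨hstep g hg x, fun hx => ?_⟩
    have := hstep g⁻¹ (N.inv_mem hg) _ hx
    simpa [mul_assoc] using this
  · intro α hα hfix
    apply hdet α hα
    -- use the abelian subgroup of `P`
    set A₀ : Subgroup P := (A'.map N.subtype).subgroupOf P with hA₀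
    have hA₀mem : ∀ x : P, x ∈ A₀ ↔ (⟨x, hPN x.2⟩ : N) ∈ A' := by
      intro x
      rw [hA₀, Subgroup.mem_subgroupOf]
      constructor
      · rintro ⟨y, hy, hyx⟩
        have h3 : (⟨x, hPN x.2⟩ : N) = y := Subtype.ext hyx.symm
        rw [h3]
        exact hy
      · intro h
        exact ⟨_, h, rfl⟩
    have hA₀D : A₀ ≤ D := by
      intro x hx
      obtain ⟨h1, h2⟩ := (hD'mem _).1 (hA'D ((hA₀mem x).1 hx))
      exact h2
    refine fix_of_fix_abelian hPp hcl hA₀D ?_ α hα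
      (fun x hx => (Subgroup.characteristic_iff_le_comap.1 hD) α hx) (fun x hx => hfix x hx)
    rintro x ⟨hxD, hxC⟩
    rw [hA₀mem]
    refine hA'C ⟨(hD'mem _).2 ⟨x.2, hxD⟩, Subgroup.mem_centralizer_iff.2 fun a ha => ?_⟩
    obtain ⟨h1, h2⟩ := (hD'mem a).1 (hA'D ha)
    have h3 : (⟨a, h1⟩ : P) ∈ A₀ := (hA₀mem _).2 ha
    have h4 := Subgroup.mem_centralizer_iff.1 hxC _ h3
    apply Subtype.ext
    have h5 : (a : Ω) * x = x * a := congrArg Subtype.val h4
    exact h5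

end Cfsg.Agent.H787
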