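import Mathlib
import Cfsg.Agent.S0063
import Cfsg.Agent.Transfer.MaximalClass

/-!
# Groups of maximal class: the second centre and its centralizer (helper787)
-/

set_option autoImplicit false

namespace Cfsg.Agent.H787

open Subgroup
open scoped commutatorElement

/-- The class of `S` read off from its lower central series inside the ambient group. -/
theorem nilpotencyClass_eq {Ω : Type*} [Group Ω] {S : Subgroup Ω} [Finite S] {p : ℕ} [hp : Fact p.Prime]
    {n : ℕ} (hn : Nat.card S = p ^ n) (h4 : 4 ≤ n) (hmax : Subgroup.lowerCentralSeries S (n - 2) ≠ ⊥) :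
    Group.nilpotencyClass S = n - 1 := by
  have hS : IsPGroup p S := IsPGroup.of_card hn
  have hnil : Group.IsNilpotent S := hS.isNilpotent
  have h1 := Cfsg.Agent.S0063.result (G := S) p n hn (by omega)
  have h2 : ¬ Group.nilpotencyClass S ≤ n - 2 := by
    intro hle
    apply hmax
    rw [← Subgroup.lowerCentralSeries_eq_bot_iff_nilpotencyClass_le] at hle
    rw [← Subgroup.top_subtype_lowerCentralSeries S (n - 2), hle, Subgroup.map_bot]
  omega

variable {X : Type*} [Group X] [Finite X] {p n : ℕ} [hp : Fact p.Prime]

theorem card_ucs_one (hX : Nat.card X = p ^ n) (hc : Group.nilpotencyClass X = n - 1) (hn : 3 ≤ n) :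
    Nat.card (Subgroup.center X) = p :=
  Cfsg.Agent.Transfer.MaximalClass.card_center_of_maxClass hn hX hc

/-- The second centre of a group of maximal class of order at least `p ^ 4` has order `p ^ 2`. -/
theorem card_ucs_two (hX : Nat.card X = p ^ n) (hc : Group.nilpotencyClass X = n - 1) (hn : 4 ≤ n) :
    Nat.card (Subgroup.upperCentralSeries X 2) = p ^ 2 := by
  have hXp : IsPGroup p X := IsPGroup.of_card hX
  have hnil : Group.IsNilpotent X := hXp.isNilpotent
  have hZ := card_ucs_one hX hc (by omega)
  have hq := Cfsg.Agent.Transfer.MaximalClass.card_quotient_center_of_maxClass (by omega) hX hc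
  have hc' : Group.nilpotencyClass (X ⧸ Subgroup.center X) = (n - 1) - 1 := by
    rw [Group.nilpotencyClass_quotient_center, hc]
  have hZ' := card_ucs_one hq hc' (by omega)
  have h1 : Subgroup.upperCentralSeries X 2 =
      (Subgroup.center (X ⧸ Subgroup.center X)).comap (QuotientGroup.mk' (Subgroup.center X)) := by
    have h0 := Subgroup.comap_upperCentralSeries_quotient_center (G := X) 1
    rw [← h0, Subgroup.upperCentralSeries_one]
  have h2 : (Subgroup.upperCentralSeries X 2).index = (Subgroup.center (X ⧸ Subgroup.center X)).index := by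
    rw [h1]
    exact Subgroup.index_comap_of_surjective _ (QuotientGroup.mk'_surjective _)
  have h3 := (Subgroup.upperCentralSeries X 2).card_mul_index
  have h4 := (Subgroup.center (X ⧸ Subgroup.center X)).card_mul_index
  have h5 := (Subgroup.center X).card_eq_card_quotient_mul_card_subgroup
  have h6 : 0 < (Subgroup.center (X ⧸ Subgroup.center X)).index :=
    Nat.pos_of_ne_zero Subgroup.index_ne_zero_of_finite
  rw [h2] at h3
  apply Nat.eq_of_mul_eq_mul_right h6
  rw [h3, h5, ← h4, hZ', hZ]
  ring

omit [Finite X] in
theorem center_le_ucs_two : Subgroup.center X ≤ Subgroup.upperCentralSeries X 2 := by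
  rw [← Subgroup.upperCentralSeries_one X]
  exact Subgroup.upperCentralSeries_mono X (by norm_num)

theorem ucs_two_comm (hX : Nat.card X = p ^ n) (hc : Group.nilpotencyClass X = n - 1) (hn : 4 ≤ n) :
    ∀ x ∈ Subgroup.upperCentralSeries X 2, ∀ y ∈ Subgroup.upperCentralSeries X 2, x * y = y * x := by
  intro x hx y hy
  have h := IsPGroup.isMulCommutative_of_card_eq_prime_sq (card_ucs_two hX hc hn)
  have := (isMulCommutative_iff.mp h) ⟨x, hx⟩ ⟨y, hy⟩
  exact congrArg Subtype.val this

/-- The centralizer of the second centre has index `p`. -/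
theorem index_centralizer_ucs_two (hX : Nat.card X = p ^ n) (hc : Group.nilpotencyClass X = n - 1)
    (hn : 4 ≤ n) : (Subgroup.centralizer (Subgroup.upperCentralSeries X 2 : Set X)).index = p := by
  have hZ := card_ucs_one hX hc (by omega)
  have hZ2 := card_ucs_two hX hc hn
  -- an element of the second centre outside the centre
  obtain ⟨w, hw, hwZ⟩ : ∃ w ∈ Subgroup.upperCentralSeries X 2, w ∉ Subgroup.center X := by
    by_contra hcon
    push Not at hcon
    have h1 : Nat.card (Subgroup.upperCentralSeries X 2) ≤ Nat.card (Subgroup.center X) :=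
      Subgroup.card_le_of_le hcon
    rw [hZ, hZ2] at h1
    have := hp.out.one_lt
    nlinarith
  have hcomm : ∀ x : X, ⁅w, x⁆ ∈ Subgroup.center X := by
    intro x
    rw [← Subgroup.upperCentralSeries_one]
    exact (Subgroup.mem_upperCentralSeries_succ_iff.1 hw) x
  let f : X →* Subgroup.center X :=
    { toFun := fun x => ⟨⁅w, x⁆, hcomm x⟩
      map_one' := by
        apply Subtype.ext
        simp
      map_mul' := by
        intro a b
        apply Subtype.ext
        change ⁅w, a * b⁆ = ⁅w, a⁆ * ⁅w, b⁆
        have h1 : ⁅w, a * b⁆ = ⁅w, a⁆ * (a * ⁅w, b⁆ * a⁻¹) := by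
          simp only [commutatorElement_def]; group
        have h2 := Subgroup.mem_center_iff.1 (hcomm b) a
        rw [h1, h2, mul_inv_cancel_right] }
  have hker : f.ker = Subgroup.centralizer (Subgroup.upperCentralSeries X 2 : Set X) := by
    ext x
    rw [MonoidHom.mem_ker]
    constructor
    · intro hx
      have h1 : ⁅w, x⁆ = 1 := congrArg Subtype.val hx
      have h2 : w ∈ Subgroup.centralizer ({x} : Set X) :=
        Subgroup.mem_centralizer_singleton_iff.2 (commutatorElement_eq_one_iff_mul_comm.1 h1)
      -- the second centre is generated by `w` and the centre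
      have h3 : Subgroup.upperCentralSeries X 2 ≤ Subgroup.centralizer ({x} : Set X) := by
        have h4 : Subgroup.upperCentralSeries X 2 ⊓ Subgroup.centralizer ({x} : Set X) =
            Subgroup.upperCentralSeries X 2 := by
          have h5 : Subgroup.center X < Subgroup.upperCentralSeries X 2 ⊓ Subgroup.centralizer ({x} : Set X) := by
            refine lt_of_le_of_ne (le_inf center_le_ucs_two (Subgroup.center_le_centralizer _)) ?_
            intro heq
            exact hwZ (by rw [heq]; exact ⟨hw, h2⟩)
          have h6 : Nat.card (Subgroup.center X) <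
              Nat.card (Subgroup.upperCentralSeries X 2 ⊓ Subgroup.centralizer ({x} : Set X) : Subgroup X) := by
            refine lt_of_le_of_ne (Subgroup.card_le_of_le h5.le) ?_
            intro heq
            exact h5.ne (Subgroup.eq_of_le_of_card_ge h5.le heq.ge)
          have h7 : Nat.card (Subgroup.upperCentralSeries X 2 ⊓ Subgroup.centralizer ({x} : Set X) : Subgroup X) ∣
              p ^ 2 := by
            rw [← hZ2]
            exact Subgroup.card_dvd_of_le inf_le_left
          rw [Nat.dvd_prime_pow hp.out] at h7
          obtain ⟨k, hk, hk'⟩ := h7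
          rw [hZ, hk'] at h6
          have h8 : 1 < k := (Nat.pow_lt_pow_iff_right hp.out.one_lt).1 (by rwa [pow_one])
          have h9 : k = 2 := by omega
          refine Subgroup.eq_of_le_of_card_ge inf_le_left ?_
          rw [hk', h9, hZ2]
        rw [← h4]
        exact inf_le_right
      rw [Subgroup.mem_centralizer_iff]
      intro y hy
      exact Subgroup.mem_centralizer_singleton_iff.1 (h3 hy)
    · intro hx
      apply Subtype.ext
      exact commutatorElement_eq_one_iff_mul_comm.2 (Subgroup.mem_centralizer_iff.1 hx w hw)
  rw [← hker, Subgroup.index_ker]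
  have h1 : Nat.card f.range ∣ p := by
    rw [← hZ]
    exact Subgroup.card_subgroup_dvd_card f.range
  rcases (Nat.dvd_prime hp.out).1 h1 with h2 | h2
  · exfalso
    apply hwZ
    rw [Subgroup.mem_center_iff]
    intro g
    have h3 : f.range = ⊥ := Subgroup.card_eq_one.1 h2
    have h4 : f g = 1 := by
      have : f g ∈ f.range := ⟨g, rfl⟩
      rw [h3] at this
      exact Subgroup.mem_bot.1 this
    have h5 : ⁅w, g⁆ = 1 := congrArg Subtype.val h4
    exact (commutatorElement_eq_one_iff_mul_comm.1 h5).symm
  · exact h2

end Cfsg.Agent.H787
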